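import Groth.Agent.EtLimit.Const
import Groth.Agent.EtBC.ViaTools

/-!
# A morphism of limits inducing bijections on cohomology at every stage
-/

set_option autoImplicit false
set_option linter.style.haveILetI false
universe u

open CategoryTheory CategoryTheory.Limits AlgebraicGeometry Opposite

namespace Groth.Agent.FibreAcyc

open Groth.Agent.EtLimit Groth.Agent.EtFound Groth.Agent.EtBC

set_option backward.isDefEq.respectTransparency.types false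

theorem hVia_eq_zero_of_diesAt {X Y Z : Scheme.{u}} (u : X ⟶ Y) (t : Y ⟶ Z) (t₀ : X ⟶ Z) (w : u ≫ t = t₀)
    [PreservesFiniteLimits (EtCoh.pull u)] (G : EtCoh.Ab Z) (p : ℕ) (ξ : EtCoh.H Y (pullObj t G) p)
    (h : DiesAt u t G p ξ) : hVia u t t₀ w G p ξ = 0 :=
  (congrArg (hmap (appOf (θPull u t t₀ w) G) p) h).trans (map_zero _)

/-- relative pullback around a commutative square -/
theorem hVia_square {A B C D Z : Scheme.{u}} (a : A ⟶ B) (b : B ⟶ D) (c : A ⟶ C) (d : C ⟶ D) (w : a ≫ b = c ≫ d)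
    (t : D ⟶ Z) (tB : B ⟶ Z) (tC : C ⟶ Z) (tA : A ⟶ Z) (hb : b ≫ t = tB) (hd : d ≫ t = tC) (ha : a ≫ tB = tA)
    (hc : c ≫ tC = tA) [PreservesFiniteLimits (EtCoh.pull a)] [PreservesFiniteLimits (EtCoh.pull b)]
    [PreservesFiniteLimits (EtCoh.pull c)] [PreservesFiniteLimits (EtCoh.pull d)] (G : EtCoh.Ab Z) (n : ℕ)
    (ξ : EtCoh.H D (pullObj t G) n) :
    hVia a tB tA ha G n (hVia b t tB hb G n ξ) = hVia c tC tA hc G n (hVia d t tC hd G n ξ) := by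
  haveI : PreservesFiniteLimits (EtCoh.pull (a ≫ b)) := pull_preservesFiniteLimits _
  have h0 : (a ≫ b) ≫ t = tA := by rw [Category.assoc, hb, ha]
  exact (hVia_comp a b t (a ≫ b) tB tA rfl hb ha h0 G n ξ).trans
    (hVia_comp c d t (a ≫ b) tC tA w.symm hd hc h0 G n ξ).symm

/-- the abstract chase -/
theorem bijective_of_stages {Z P Q : Scheme.{u}} {ι : Type u} [Preorder ι] (X Y : ι → Scheme.{u})
    (lX : ∀ i, P ⟶ X i) (lY : ∀ i, Q ⟶ Y i) (tX : ∀ {i j : ι}, i ≤ j → (X j ⟶ X i))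
    (tY : ∀ {i j : ι}, i ≤ j → (Y j ⟶ Y i)) (n : ∀ i, X i ⟶ Y i) (h : P ⟶ Q)
    (hh : ∀ i, h ≫ lY i = lX i ≫ n i) (hn : ∀ {i j : ι} (m : i ≤ j), n j ≫ tY m = tX m ≫ n i)
    (hlY : ∀ {i j : ι} (m : i ≤ j), lY j ≫ tY m = lY i)
    (e : ∀ i, Y i ⟶ Z) (he : ∀ {i j : ι} (m : i ≤ j), tY m ≫ e i = e j) (eX : ∀ i, X i ⟶ Z)
    (hne : ∀ i, n i ≫ e i = eX i) (heX : ∀ {i j : ι} (m : i ≤ j), tX m ≫ eX i = eX j)
    (e₀ : Q ⟶ Z) (he₀ : ∀ i, lY i ≫ e i = e₀) (eP : P ⟶ Z) (heP : h ≫ e₀ = eP) (heXP : ∀ i, lX i ≫ eX i = eP)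
    [∀ i, PreservesFiniteLimits (EtCoh.pull (lX i))] [∀ i, PreservesFiniteLimits (EtCoh.pull (lY i))]
    [∀ (i j : ι) (m : i ≤ j), PreservesFiniteLimits (EtCoh.pull (tX m))]
    [∀ (i j : ι) (m : i ≤ j), PreservesFiniteLimits (EtCoh.pull (tY m))]
    [∀ i, PreservesFiniteLimits (EtCoh.pull (n i))] [PreservesFiniteLimits (EtCoh.pull h)]
    (M : EtCoh.Ab Z) (q : ℕ)
    (HXsurj : ∀ ξ, ∃ j x, hVia (lX j) (eX j) eP (heXP j) M q x = ξ)
    (HXinj : ∀ j x, hVia (lX j) (eX j) eP (heXP j) M q x = 0 → ∃ k, ∃ m : j ≤ k, hVia (tX m) (eX j) (eX k) (heX m) M q x = 0)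
    (HYsurj : ∀ η, ∃ j y, hVia (lY j) (e j) e₀ (he₀ j) M q y = η)
    (hstage : ∀ i, Function.Bijective (hVia (n i) (e i) (eX i) (hne i) M q)) :
    Function.Bijective (hVia h e₀ eP heP M q) := by
  refine ⟨(injective_iff_map_eq_zero _).2 fun η hη => ?_, fun ξ => ?_⟩
  · obtain ⟨j, y, rfl⟩ := HYsurj η
    rw [hVia_square h (lY j) (lX j) (n j) (hh j) (e j) e₀ (eX j) eP (he₀ j) (hne j) heP (heXP j) M q y] at hη
    obtain ⟨k, m, hk⟩ := HXinj j _ hη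
    have hk' := hk
    have h0 : hVia (n k) (e k) (eX k) (hne k) M q (hVia (tY m) (e j) (e k) (he m) M q y) = 0 :=
      (hVia_square (n k) (tY m) (tX m) (n j) (hn m) (e j) (e k) (eX j) (eX k) (he m) (hne j) (hne k) (heX m) M q
        y).trans hk'
    have hy0 : hVia (tY m) (e j) (e k) (he m) M q y = 0 := ((injective_iff_map_eq_zero _).1 (hstage k).1) _ h0
    refine Eq.trans ?_ ((congrArg (hVia (lY k) (e k) e₀ (he₀ k) M q) hy0).trans (map_zero _))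
    exact (hVia_comp (lY k) (tY m) (e j) _ (e k) e₀ (hlY m) (he m) (he₀ k) (he₀ j) M q y).symm
  · obtain ⟨j, x, rfl⟩ := HXsurj ξ
    obtain ⟨y, rfl⟩ := (hstage j).2 x
    exact ⟨hVia (lY j) (e j) e₀ (he₀ j) M q y,
      hVia_square h (lY j) (lX j) (n j) (hh j) (e j) e₀ (eX j) eP (he₀ j) (hne j) heP (heXP j) M q y⟩

variable {Z : Scheme.{u}} {ι : Type u} [Preorder ι] [IsDirected ι (· ≤ ·)] [Nonempty ι] (Xs Ys : ιᵒᵖ ⥤ Scheme.{u})
  (hX : ∀ ⦃a b : ιᵒᵖ⦄ (m : a ⟶ b), IsAffineHom (Xs.map m)) (hY : ∀ ⦃a b : ιᵒᵖ⦄ (m : a ⟶ b), IsAffineHom (Ys.map m))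
  (cX : Cone Xs) (hcX : IsLimit cX) (cY : Cone Ys) (hcY : IsLimit cY)
  (qX : ∀ a, CompactSpace ↥(Xs.obj a)) (sX : ∀ a, QuasiSeparatedSpace ↥(Xs.obj a))
  (qY : ∀ a, CompactSpace ↥(Ys.obj a)) (sY : ∀ a, QuasiSeparatedSpace ↥(Ys.obj a))
  (hN : Xs ⟶ Ys) (h : cX.pt ⟶ cY.pt) (hh : ∀ a, h ≫ cY.π.app a = cX.π.app a ≫ hN.app a)
  (e : ∀ i : ι, Ys.obj (op i) ⟶ Z) (he : ∀ {i j : ι} (m : i ≤ j), tr Ys m ≫ e i = e j) (M : EtCoh.Ab Z)
  (e₀ : cY.pt ⟶ Z) (he₀ : ∀ i : ι, cY.π.app (op i) ≫ e i = e₀) [PreservesFiniteLimits (EtCoh.pull h)]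

include hX hY hcX hcY qX sX qY sY hh he he₀ in
theorem bijective_hVia_limit (q : ℕ)
    (hstage : ∀ i : ι, ∀ [PreservesFiniteLimits (EtCoh.pull (hN.app (op i)))],
      Function.Bijective (hVia (hN.app (op i)) (e i) (hN.app (op i) ≫ e i) rfl M q)) :
    Function.Bijective (hVia h e₀ (h ≫ e₀) rfl M q) := by
  haveI : ∀ a, PreservesFiniteLimits (EtCoh.pull (cX.π.app a)) := fun a => pull_preservesFiniteLimits _
  haveI : ∀ a, PreservesFiniteLimits (EtCoh.pull (cY.π.app a)) := fun a => pull_preservesFiniteLimits _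
  haveI : ∀ ⦃a b : ιᵒᵖ⦄ (m : a ⟶ b), PreservesFiniteLimits (EtCoh.pull (Xs.map m)) :=
    fun _ _ _ => pull_preservesFiniteLimits _
  haveI : ∀ ⦃a b : ιᵒᵖ⦄ (m : a ⟶ b), PreservesFiniteLimits (EtCoh.pull (Ys.map m)) :=
    fun _ _ _ => pull_preservesFiniteLimits _
  haveI : ∀ a, PreservesFiniteLimits (EtCoh.pull (hN.app a)) := fun a => pull_preservesFiniteLimits _
  let eX : ∀ i : ι, Xs.obj (op i) ⟶ Z := fun i => hN.app (op i) ≫ e i
  have heX : ∀ {i j : ι} (m : i ≤ j), tr Xs m ≫ eX i = eX j := fun {i j} m => by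
    show Xs.map (homOfLE m).op ≫ hN.app (op i) ≫ e i = hN.app (op j) ≫ e j
    rw [hN.naturality_assoc]
    exact congrArg (hN.app (op j) ≫ ·) (he m)
  have he₀X : ∀ i : ι, cX.π.app (op i) ≫ eX i = h ≫ e₀ := fun i => by
    show cX.π.app (op i) ≫ hN.app (op i) ≫ e i = _
    rw [← Category.assoc, ← hh, Category.assoc, he₀]
  have HX := genSys_comparison' Xs hX cX hcX qX sX eX heX M (h ≫ e₀) he₀X q
  have HY := genSys_comparison' Ys hY cY hcY qY sY e he M e₀ he₀ q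
  exact bijective_of_stages (fun i => Xs.obj (op i)) (fun i => Ys.obj (op i)) (fun i => cX.π.app (op i))
    (fun i => cY.π.app (op i)) (fun m => tr Xs m) (fun m => tr Ys m) (fun i => hN.app (op i)) h
    (fun i => hh (op i)) (fun m => (hN.naturality _).symm) (fun m => cY.w (homOfLE m).op) e he eX (fun _ => rfl)
    heX e₀ he₀ (h ≫ e₀) rfl he₀X M q HX.1 (fun j x hx => by
      obtain ⟨k, m, hk⟩ := HX.2 j x hx
      exact ⟨k, m, hVia_eq_zero_of_diesAt (tr Xs m) (eX j) (eX k) (heX m) M q x hk⟩) HY.1 (fun i => hstage i)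

end Groth.Agent.FibreAcyc
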