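import Groth.Agent.EtFound.ConstStalk
import Groth.Agent.EtFound.CoprodSections
import Groth.Agent.EtTrace.ConstPoint
import Groth.Agent.EtBC.CompNBase
import Groth.Prelude.Def_EtBase

/-!
# Connectedness from the cardinality of the sections of a constant sheaf
-/

set_option autoImplicit false
set_option linter.style.haveILetI false
universe u

open CategoryTheory CategoryTheory.Limits AlgebraicGeometry Opposite

namespace Groth.Agent.FibreAcyc

open Groth.Agent.EtFound Groth.Agent.EtLimit Groth.Agent.EtBC

set_option backward.isDefEq.respectTransparency.types false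

variable {X : Scheme.{u}}

/-- the constant sections -/
noncomputable abbrev constSec (M : AddCommGrpCat.{u + 1}) (U : X.Etale) :
    M ⟶ (sheafify X.smallEtaleTopology ((Functor.const X.Etaleᵒᵖ).obj M)).obj (op U) :=
  (toSheafify X.smallEtaleTopology ((Functor.const X.Etaleᵒᵖ).obj M)).app (op U)

theorem constSec_map (M : AddCommGrpCat.{u + 1}) {U V : X.Etale} (g : V ⟶ U) (m : M) :
    (sheafify X.smallEtaleTopology ((Functor.const X.Etaleᵒᵖ).obj M)).map g.op (constSec M U m) = constSec M V m :=
  (NatTrans.naturality_apply (toSheafify X.smallEtaleTopology ((Functor.const X.Etaleᵒᵖ).obj M)) g.op m).symm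

theorem constSec_injective (M : AddCommGrpCat.{u + 1}) (U : X.Etale) (hU : Nonempty U.left) :
    Function.Injective (constSec M U) := by
  obtain ⟨y⟩ := hU
  obtain ⟨Ω, _, _, ξ, v, -⟩ := exists_point_through U y
  intro a b hab
  exact (toSheafify_const_germ_bijective ξ AddCommGrpCat.{u + 1} M U v).1 (congrArg _ hab)

/-- connectedness when the only sections of a constant sheaf are the constants -/
theorem connectedSpace_of_surjective (M : AddCommGrpCat.{u + 1}) [Nontrivial M] [Nonempty X]
    (hs : Function.Surjective (constSec M (EtCoh.top X))) : ConnectedSpace X := by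
  haveI : PreconnectedSpace X := preconnectedSpace_iff_clopen.2 fun S hS => by
    by_contra hne
    obtain ⟨hne1, hne2⟩ := not_or.1 hne
    let O : Bool → X.Opens := fun b => bif b then ⟨S, hS.2⟩ else ⟨Sᶜ, hS.1.isOpen_compl⟩
    let Z : Bool → X.Etale := fun b => Scheme.Etale.mk (O b).ι
    let g : ∀ b, Z b ⟶ EtCoh.top X := fun b => MorphismProperty.Over.homMk (O b).ι (Category.comp_id _) trivial
    have hmono : ∀ b, Mono (g b) := fun b => ⟨fun {W} a a' h => MorphismProperty.Over.Hom.ext
      ((cancel_mono (O b).ι).1 (congrArg (fun k => k.left) h))⟩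
    haveI := hmono
    have hbij := bijective_sections_of_disjoint ((presheafToSheaf X.smallEtaleTopology AddCommGrpCat.{u + 1}).obj
      ((Functor.const X.Etaleᵒᵖ).obj M)) Z g (fun x => ?_) (fun i j hij a b hab => ?_)
    · obtain ⟨m₀, hm₀⟩ := exists_ne (0 : M)
      obtain ⟨s, hs'⟩ := hbij.2 fun b => constSec M (Z b) (bif b then m₀ else 0)
      obtain ⟨m, rfl⟩ := hs s
      have key : ∀ b, Nonempty (Z b).left → m = bif b then m₀ else 0 := fun b hb =>
        constSec_injective M (Z b) hb ((constSec_map M (g b) m).symm.trans (congrFun hs' b))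
      have h1 : m = m₀ := key true (by
        obtain ⟨x, hx⟩ := Set.nonempty_iff_ne_empty.2 hne1
        exact ⟨⟨x, hx⟩⟩)
      have h2 : m = 0 := key false (by
        obtain ⟨x, hx⟩ := (Set.ne_univ_iff_exists_notMem S).1 hne2
        exact ⟨⟨x, hx⟩⟩)
      exact hm₀ (h1.symm.trans h2)
    · by_cases hx : x ∈ S
      · exact ⟨true, ⟨x, hx⟩, rfl⟩
      · exact ⟨false, ⟨x, hx⟩, rfl⟩
    · have ha : (a : (O i).toScheme).1 = (b : (O j).toScheme).1 := hab
      cases i <;> cases j
      · exact hij rfl
      · exact a.2 (ha ▸ b.2)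
      · exact b.2 (ha ▸ a.2)
      · exact hij rfl
  exact ⟨inferInstance⟩

/-- nonempty and connected, when pullback from a separably closed point is bijective on the sections of a
finite constant sheaf -/
theorem nonempty_connectedSpace (k : Type u) [Field k] [IsSepClosed k] (h : X ⟶ Spec (CommRingCat.of k))
    [PreservesFiniteLimits (EtCoh.pull h)] (M : Type) [AddCommGroup M] [Finite M] [Nontrivial M]
    (hb : Function.Bijective (EtCore.Hpull h (EtCoh.const (Spec (CommRingCat.of k)) M) 0)) :
    Nonempty X ∧ ConnectedSpace X := by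
  let M' : AddCommGrpCat.{u + 1} := AddCommGrpCat.of (ULift.{u + 1} M)
  haveI : Finite M' := inferInstanceAs (Finite (ULift.{u + 1} M))
  haveI : Nontrivial M' := inferInstanceAs (Nontrivial (ULift.{u + 1} M))
  let e1 := Equiv.ofBijective _ (⟨constSec_injective M' (EtCoh.top (Spec (CommRingCat.of k))) ⟨(default : Spec (CommRingCat.of k))⟩,
    EtTrace.toSheafify_top_surjective (Spec (CommRingCat.of k)) M'⟩ : Function.Bijective
      (constSec M' (EtCoh.top (Spec (CommRingCat.of k)))))
  let e2 := (Equiv.ofBijective _ (hSec_bijective (EtCoh.const (Spec (CommRingCat.of k)) M))).symm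
  let e3 := Equiv.ofBijective _ hb
  let e4 := Equiv.ofBijective _ (hmap_bijective_of_isIso (EtCore.pullConst h M).hom 0)
  let e5 := Equiv.ofBijective _ (hSec_bijective (EtCoh.const X M))
  let E : M' ≃ (sheafify X.smallEtaleTopology ((Functor.const X.Etaleᵒᵖ).obj M')).obj (op (EtCoh.top X)) :=
    (((e1.trans e2).trans e3).trans e4).trans e5
  haveI hne : Nonempty X := by
    by_contra hX
    haveI : IsEmpty X := not_nonempty_iff.1 hX
    haveI : IsEmpty (EtCoh.top X).left := ‹IsEmpty X›
    exact not_subsingleton M' (@Equiv.subsingleton _ _ E (subsingleton_sections_of_isEmpty (EtCoh.const X M) (EtCoh.top X)))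
  refine ⟨hne, connectedSpace_of_surjective M' ?_⟩
  intro s
  obtain ⟨m, hm⟩ := (Finite.injective_iff_surjective.1
    (E.symm.injective.comp (constSec_injective M' (EtCoh.top X) hne))) (E.symm s)
  exact ⟨m, E.symm.injective hm⟩

end Groth.Agent.FibreAcyc
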