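import Groth.Agent.EtBC.CompNKilled
import Groth.Agent.EtFound.SepClosedField
import Groth.Agent.S0073
import Groth.Agent.FibreAcyc.Conn
import Mathlib.Algebra.Category.Grp.FilteredColimits
import Mathlib.GroupTheory.Perm.Cycle.Type

/-!
# Torsion sheaves on a separably closed point: from `ℤ/ℓ` to all of them
-/

set_option autoImplicit false
set_option linter.style.haveILetI false
universe u

open CategoryTheory CategoryTheory.Limits AlgebraicGeometry Opposite

namespace Groth.Agent.FibreAcyc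

open Groth.Agent.EtFound Groth.Agent.EtLimit Groth.Agent.EtBC

set_option backward.isDefEq.respectTransparency.types false

variable {P X : Scheme.{u}} (h : X ⟶ P) [PreservesFiniteLimits (EtCoh.pull h)] (n : ℕ)

/-- acyclicity of `h` for one coefficient group -/
def GoodCoeff (G : EtCoh.Ab P) : Prop :=
  Function.Bijective (EtCore.Hpull h G 0) ∧ ∀ q, 1 ≤ q → q ≤ n → Subsingleton (EtCoh.H X ((EtCoh.pull h).obj G) q)

variable {h n}

theorem goodCoeff_of_iso {G G' : EtCoh.Ab P} (e : G ≅ G') (hG : GoodCoeff h n G) : GoodCoeff h n G' := by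
  refine ⟨?_, fun q h1 h2 => ?_⟩
  · have : (fun x => hmap ((EtCoh.pull h).map e.hom) 0 (EtCore.Hpull h G 0 x)) =
        fun x => EtCore.Hpull h G' 0 (hmap e.hom 0 x) := funext fun x => (Hpull_hmap h e.hom 0 x).symm
    have h2 : Function.Bijective (fun x => EtCore.Hpull h G' 0 (hmap e.hom 0 x)) :=
      this ▸ (hmap_bijective_of_isIso ((EtCoh.pull h).map e.hom) 0).comp hG.1
    exact (Function.Bijective.of_comp_iff _ (hmap_bijective_of_isIso e.hom 0)).1 h2
  · haveI := hG.2 q h1 h2
    exact (hmap_bijective_of_isIso ((EtCoh.pull h).map e.hom) q).2.subsingleton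

theorem goodCoeff_of_shortExact {E : ShortComplex (EtCoh.Ab P)} (hE : E.ShortExact)
    (hP : Subsingleton (EtCoh.H P E.X₁ 1)) (h1 : GoodCoeff h n E.X₁) (h3 : GoodCoeff h n E.X₃) :
    GoodCoeff h n E.X₂ := by
  haveI : (EtCoh.pull h).Additive := Functor.additive_of_preserves_binary_products _
  haveI : PreservesColimitsOfSize.{0, 0} (EtCoh.pull h) := (EtCoh.pullPushAdj h).leftAdjoint_preservesColimits
  have hE' := hE.map_of_exact (EtCoh.pull h)
  haveI : Mono E.f := hE.mono_f
  haveI : Mono (E.map (EtCoh.pull h)).f := hE'.mono_f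
  refine ⟨⟨(injective_iff_map_eq_zero _).2 fun x hx => ?_, fun y => ?_⟩, fun q hq1 hqn => ?_⟩
  · have h0 : hmap E.g 0 x = 0 := (injective_iff_map_eq_zero _).1 h3.1.1 _ (by rw [Hpull_hmap, hx, map_zero])
    obtain ⟨a, rfl⟩ := exists_hmap_of_hmap_eq_zero hE 0 x h0
    rw [Hpull_hmap] at hx
    have : EtCore.Hpull h E.X₁ 0 a = 0 :=
      hmap_zero_injective (E.map (EtCoh.pull h)).f (hx.trans (map_zero _).symm)
    rw [(injective_iff_map_eq_zero _).1 h1.1.1 a this, map_zero]
  · obtain ⟨z, hz⟩ := h3.1.2 (hmap ((EtCoh.pull h).map E.g) 0 y)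
    obtain ⟨x₀, rfl⟩ := exists_hmap_of_hδ_eq_zero hE (rfl : 0 + 1 = 1) z (hP.elim _ _)
    obtain ⟨a, ha⟩ := exists_hmap_of_hmap_eq_zero hE' 0 (y - EtCore.Hpull h E.X₂ 0 x₀)
      (show hmap ((EtCoh.pull h).map E.g) 0 (y - EtCore.Hpull h E.X₂ 0 x₀) = 0 by
        rw [map_sub, ← hz, Hpull_hmap]
        exact sub_self _)
    obtain ⟨a₀, rfl⟩ := h1.1.2 a
    exact ⟨hmap E.f 0 a₀ + x₀, by rw [map_add, Hpull_hmap]; exact eq_sub_iff_add_eq.1 ha⟩
  · haveI := h1.2 q hq1 hqn
    haveI := h3.2 q hq1 hqn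
    refine subsingleton_of_forall_eq 0 fun y => ?_
    obtain ⟨a, rfl⟩ := exists_hmap_of_hmap_eq_zero hE' q y (Subsingleton.elim (α := EtCoh.H X ((EtCoh.pull h).obj E.X₃) q) _ _)
    rw [show a = 0 from Subsingleton.elim (α := EtCoh.H X ((EtCoh.pull h).obj E.X₁) q) _ _, map_zero]
    rfl

theorem goodCoeff_of_colimit [CompactSpace P] [QuasiSeparatedSpace P] [CompactSpace X] [QuasiSeparatedSpace X]
    {J : Type (u + 1)} [SmallCategory J] [IsFiltered J] {K : J ⥤ EtCoh.Ab P} {c : Cocone K} (hc : IsColimit c)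
    (hK : ∀ j, GoodCoeff h n (K.obj j)) : GoodCoeff h n c.pt := by
  refine ⟨⟨injective_of_colimit h hc 0 fun j => (hK j).1.1, surjective_of_colimit h hc 0 fun j => (hK j).1.2⟩,
    fun q h1 h2 => ?_⟩
  haveI : PreservesColimitsOfSize.{u + 1, u + 1} (EtCoh.pull h) := (EtCoh.pullPushAdj h).leftAdjoint_preservesColimits
  haveI := EtLC12.QcqsAcyclic.preservesColimitsOfShape_HF X q J
  refine subsingleton_of_forall_eq 0 fun y => ?_
  obtain ⟨j, y₀, rfl⟩ := exists_hmap_of_colimit q (isColimitOfPreserves (EtCoh.pull h) hc) y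
  haveI := (hK j).2 q h1 h2
  rw [show y₀ = 0 from Subsingleton.elim (α := EtCoh.H X ((EtCoh.pull h).obj (K.obj j)) q) _ _, map_zero]

/-- finitely generated subgroups -/
def fgDiag (A : AddCommGrpCat.{u + 1}) : Finset A ⥤ AddCommGrpCat.{u + 1} where
  obj s := AddCommGrpCat.of (AddSubgroup.closure (s : Set A))
  map {s t} m := AddCommGrpCat.ofHom (AddSubgroup.inclusion (AddSubgroup.closure_mono (leOfHom m)))

/-- the inclusions -/
def fgCocone (A : AddCommGrpCat.{u + 1}) : Cocone (fgDiag A) :=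
  Cocone.mk A { app := fun s => AddCommGrpCat.ofHom (AddSubgroup.closure (s : Set A)).subtype }

theorem nonempty_isColimit_fgCocone (A : AddCommGrpCat.{u + 1}) : Nonempty (IsColimit (fgCocone A)) := by
  classical
  haveI : IsFiltered (Finset A) := isFiltered_of_directed_le_nonempty _
  haveI : HasColimit (fgDiag A) := inferInstance
  haveI : PreservesColimitsOfShape (Finset A) (forget AddCommGrpCat.{u + 1}) := inferInstance
  haveI : ReflectsColimit (fgDiag A) (forget AddCommGrpCat.{u + 1}) := reflectsColimit_of_reflectsIsomorphisms (fgDiag A) _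
  refine ⟨isColimitOfReflects (forget AddCommGrpCat.{u + 1}) ?_⟩
  refine Types.FilteredColimit.isColimitOf _ _ (fun x => ?_) fun i j x y hxy => ?_
  · exact ⟨{x}, ⟨x, AddSubgroup.subset_closure (Finset.mem_coe.2 (Finset.mem_singleton_self _))⟩, rfl⟩
  · exact ⟨i ∪ j, homOfLE Finset.subset_union_left, homOfLE Finset.subset_union_right, Subtype.ext hxy⟩

variable (k : Type u) [Field k] [IsSepClosed k]

theorem subsingleton_H_point (F : EtCoh.Ab (Spec (CommRingCat.of k))) (q : ℕ) (hq : 1 ≤ q) :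
    Subsingleton (EtCoh.H (Spec (CommRingCat.of k)) F q) := by
  haveI : IsSepClosed (IsLocalRing.ResidueField k) := by
    let e := RingEquiv.ofBijective (IsLocalRing.residue k)
      ⟨(IsLocalRing.residue k).injective, IsLocalRing.residue_surjective⟩
    exact Hensel.isSepClosed_of_ringEquiv (k := k) e
  exact S0073.result k F q hq

variable {k} (hX : X ⟶ Spec (CommRingCat.of k)) [PreservesFiniteLimits (EtCoh.pull hX)] [CompactSpace X]
  [QuasiSeparatedSpace X] (L : Set ℕ)
  (hL : ∀ ℓ : ℕ, ℓ.Prime → ℓ ∈ L → GoodCoeff hX n (EtCoh.const (Spec (CommRingCat.of k)) (ZMod ℓ)))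

include hL in
theorem goodCoeff_finite (m : ℕ) : ∀ A : AddCommGrpCat.{u + 1}, Finite A → Nat.card A ≤ m →
    (∀ a : A, ∃ d, EtAcyc.PrimesIn L d ∧ d • a = 0) →
    GoodCoeff hX n ((constantSheaf (Spec (CommRingCat.of k)).smallEtaleTopology AddCommGrpCat.{u + 1}).obj A) := by
  classical
  let C := constantSheaf (Spec (CommRingCat.of k)).smallEtaleTopology AddCommGrpCat.{u + 1}
  haveI : C.Additive := (EtCore.constAdj (Spec (CommRingCat.of k))).left_adjoint_additive
  haveI : PreservesFiniteLimits C := by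
    show PreservesFiniteLimits (Functor.const _ ⋙ presheafToSheaf _ _)
    infer_instance
  haveI : PreservesFiniteColimits C := by
    haveI : PreservesColimitsOfSize.{0, 0} C :=
      (EtCore.constAdj (Spec (CommRingCat.of k))).leftAdjoint_preservesColimits
    exact PreservesColimitsOfSize.preservesFiniteColimits _
  haveI : (EtCoh.pull hX).Additive := Functor.additive_of_preserves_binary_products _
  induction m with
  | zero => intro A hA hc; exact absurd hc (by have := Nat.card_pos (α := A); omega)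
  | succ m ih =>
    intro A hA hc htor
    by_cases h1 : Nat.card A ≤ 1
    · haveI : Subsingleton A := Finite.card_le_one_iff_subsingleton.1 h1
      have hZ : IsZero ((EtCoh.pull hX).obj (C.obj A)) :=
        (EtCoh.pull hX).map_isZero (C.map_isZero (AddCommGrpCat.isZero_of_subsingleton A))
      have hs : ∀ q, Subsingleton (EtCoh.H X ((EtCoh.pull hX).obj (C.obj A)) q) := fun q =>
        AddCommGrpCat.subsingleton_of_isZero ((EtCoh.HF X q).map_isZero hZ)
      have hs0 : Subsingleton (EtCoh.H (Spec (CommRingCat.of k)) (C.obj A) 0) :=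
        AddCommGrpCat.subsingleton_of_isZero ((EtCoh.HF (Spec (CommRingCat.of k)) 0).map_isZero
          (C.map_isZero (AddCommGrpCat.isZero_of_subsingleton A)))
      exact ⟨⟨fun x y _ => hs0.elim x y, fun y => ⟨0, (hs 0).elim _ _⟩⟩, fun q _ _ => hs q⟩
    obtain ⟨p, hp, hpd⟩ := Nat.exists_prime_and_dvd (show Nat.card A ≠ 1 by omega)
    haveI : Fact p.Prime := ⟨hp⟩
    obtain ⟨a, ha⟩ := exists_prime_addOrderOf_dvd_card' p hpd
    have hpL : p ∈ L := by
      obtain ⟨d, hd, hda⟩ := htor a
      exact hd.2 p hp (ha ▸ addOrderOf_dvd_of_nsmul_eq_zero hda)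
    let B := AddSubgroup.zmultiples a
    have hB : Nat.card B = p := (Nat.card_zmultiples a).trans ha
    haveI : IsAddCyclic B := inferInstance
    let eB : ULift.{u + 1} (ZMod p) ≃+ B :=
      AddEquiv.ulift.trans ((hB ▸ zmodAddCyclicAddEquiv (G := B) inferInstance : ZMod p ≃+ B))
    let Q : AddCommGrpCat.{u + 1} := AddCommGrpCat.of (A ⧸ B)
    let S : ShortComplex AddCommGrpCat.{u + 1} :=
      ShortComplex.mk (AddCommGrpCat.ofHom (X := ULift.{u + 1} (ZMod p)) (Y := A) (B.subtype.comp eB.toAddMonoidHom))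
        (AddCommGrpCat.ofHom (QuotientAddGroup.mk' B) : A ⟶ Q) (by
          ext x
          exact (QuotientAddGroup.eq_zero_iff _).2 (eB x).2)
    have hS : S.ShortExact :=
      { exact := (ShortComplex.ab_exact_iff _).2 fun x hx => by
          refine ⟨eB.symm ⟨x, (QuotientAddGroup.eq_zero_iff x).1 hx⟩, ?_⟩
          show ((eB (eB.symm _) : B) : A) = x
          rw [AddEquiv.apply_symm_apply]
        mono_f := (AddCommGrpCat.mono_iff_injective _).2 (Subtype.val_injective.comp eB.injective)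
        epi_g := (AddCommGrpCat.epi_iff_surjective _).2 (QuotientAddGroup.mk'_surjective B) }
    refine goodCoeff_of_shortExact (E := S.map C) (hS.map_of_exact C) (subsingleton_H_point k _ 1 le_rfl)
      (hL p hp hpL) (ih Q inferInstance ?_ ?_)
    · have hcard := AddSubgroup.card_eq_card_quotient_mul_card_addSubgroup B
      rw [hB] at hcard
      have h2 : 2 ≤ p := hp.two_le
      have hpos : 0 < Nat.card (A ⧸ B) := Nat.card_pos
      show Nat.card (A ⧸ B) ≤ m
      nlinarith
    · intro x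
      obtain ⟨y, rfl⟩ := QuotientAddGroup.mk'_surjective B x
      obtain ⟨d, hd, hdy⟩ := htor y
      exact ⟨d, hd, by rw [← map_nsmul, hdy, map_zero]⟩

include hL in
/-- acyclicity for all torsion sheaves on the point -/
theorem goodCoeff_field (M : EtCoh.Ab (Spec (CommRingCat.of k))) (hM : EtAcyc.IsLTorsion L M) :
    GoodCoeff hX n M := by
  classical
  haveI := sectTop_isEquivalence (k := k) (A := AddCommGrpCat.{u + 1})
  let adj := constantSheafAdj (Spec (CommRingCat.of k)).smallEtaleTopology AddCommGrpCat.{u + 1}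
    (MorphismProperty.Over.mkIdTerminal EtCoh.etaleMP (Spec (CommRingCat.of k)))
  let A : AddCommGrpCat.{u + 1} := M.obj.obj (op (EtCoh.top (Spec (CommRingCat.of k))))
  haveI : IsIso (adj.counit.app M) := inferInstance
  refine goodCoeff_of_iso (@asIso _ _ _ _ (adj.counit.app M) inferInstance) ?_
  have htor : ∀ a : A, ∃ d, EtAcyc.PrimesIn L d ∧ d • a = 0 := fun a => by
    obtain ⟨d, hd, h0⟩ := (S8525.result L M).1 hM k (𝟙 _)
      ((Scheme.pointSmallEtale (𝟙 (Spec (CommRingCat.of k)))).toPresheafFiber _ (idTop k) M.obj a)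
    refine ⟨d, hd, (toPresheafFiber_idTop_bijective M.obj).1 ?_⟩
    rw [map_nsmul]
    exact h0.trans (map_zero _).symm
  haveI : IsFiltered (Finset A) := isFiltered_of_directed_le_nonempty _
  obtain ⟨hc⟩ := nonempty_isColimit_fgCocone A
  haveI : PreservesColimitsOfSize.{u + 1, u + 1}
      (constantSheaf (Spec (CommRingCat.of k)).smallEtaleTopology AddCommGrpCat.{u + 1}) :=
    (EtCore.constAdj (Spec (CommRingCat.of k))).leftAdjoint_preservesColimits
  refine goodCoeff_of_colimit (isColimitOfPreserves _ hc) fun s => ?_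
  haveI : Finite (AddSubgroup.closure (s : Set A)) := by
    haveI : AddGroup.FG (AddSubgroup.closure (s : Set A)) :=
      (AddGroup.fg_iff_addSubgroup_fg _).2 ⟨s, rfl⟩
    refine AddCommGroup.finite_of_fg_isAddTorsion _ fun x => ?_
    obtain ⟨d, hd, h0⟩ := htor x.1
    exact isOfFinAddOrder_iff_nsmul_eq_zero.2 ⟨d, hd.1, Subtype.ext h0⟩
  exact goodCoeff_finite hX L hL _ _ ‹_› le_rfl fun x => by
    obtain ⟨d, hd, h0⟩ := htor x.1
    exact ⟨d, hd, Subtype.ext h0⟩

end Groth.Agent.FibreAcyc
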