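import Groth.Agent.FibreAcyc.Rings
import Groth.Agent.FibreAcyc.Limit
import Groth.Agent.FibreAcyc.Conn
import Groth.Agent.EtBC.Devissage
import Groth.Agent.S0655
import Groth.Agent.EtFound.PushExact
import Groth.Agent.SiteBase.LerayTop
import Groth.Prelude.Def_EtAcyc
import Mathlib.CategoryTheory.Limits.Constructions.Over.Connected
import Mathlib.CategoryTheory.Comma.Over.Pullback
import Mathlib.RingTheory.Localization.Integral
import Mathlib.AlgebraicGeometry.Morphisms.Integral

/-!
# Acyclic morphisms have acyclic geometric fibres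
-/

set_option autoImplicit false
set_option linter.style.haveILetI false
universe u

open CategoryTheory CategoryTheory.Limits AlgebraicGeometry Opposite

namespace Groth.Agent.FibreAcyc

open Groth.Agent.EtLimit Groth.Agent.EtFound Groth.Agent.EtBC

set_option backward.isDefEq.respectTransparency.types false

theorem isIso_of_isZero {C : Type*} [Category* C] [HasZeroMorphisms C] {A B : C} (a : A ⟶ B) (hA : IsZero A)
    (hB : IsZero B) : IsIso a :=
  ⟨⟨hB.to_ A, hA.eq_of_src _ _, hB.eq_of_src _ _⟩⟩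

/-- the base change maps of a cartesian square along an integral morphism -/
theorem isIso_bcQ_integral {Xb Yb X Y : Scheme.{u}} {h : Y ⟶ X} {p : Xb ⟶ X} {hb : Yb ⟶ Xb} {pY : Yb ⟶ Y}
    (sq : IsPullback hb pY p h) [IsIntegralHom p] [PreservesFiniteLimits (EtCoh.pull hb)] (F : EtCoh.Ab Xb) (i : ℕ) :
    IsIso (EtBC.bcQ p h pY hb sq.w i F) := by
  haveI : IsIntegralHom pY := MorphismProperty.of_isPullback sq inferInstance
  haveI := push_preservesFiniteLimits p
  haveI := push_preservesFiniteLimits pY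
  obtain _ | k := i
  · haveI := S0655.result p h pY hb sq F
    haveI : IsIso ((EtCoh.pull h).map ((EtCoh.push p).toRightDerivedZero.app F) ≫ EtBC.bcQ p h pY hb sq.w 0 F) := by
      rw [EtBC.bcQ_zero_compat]
      infer_instance
    exact IsIso.of_isIso_comp_left ((EtCoh.pull h).map ((EtCoh.push p).toRightDerivedZero.app F)) _
  · haveI := push_preservesFiniteColimits p
    haveI := push_preservesFiniteColimits pY
    exact isIso_of_isZero _ ((EtCoh.pull h).map_isZero (LerayDegen.isZero_rightDerived_of_exact (EtCoh.push p) F k))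
      (LerayDegen.isZero_rightDerived_of_exact (EtCoh.push pY) _ k)

variable {X Y : Scheme.{u}}

/-- the fields over an affine open -/
theorem exists_affine_point (y : Y) (Ω : Type u) [Field Ω] [Algebra (Y.residueField y) Ω]
    [Algebra.IsAlgebraic (Y.residueField y) Ω] :
    ∃ (U : Y.Opens) (hU : IsAffineOpen U) (φ : Γ(Y, U) →+* Ω),
      Spec.map (CommRingCat.ofHom φ) ≫ hU.fromSpec = EtAcyc.geomPt Y y Ω ∧
      ∀ x : Ω, ∃ c : Γ(Y, U), φ c ≠ 0 ∧ φ.IsIntegralElem (φ c * x) := by
  obtain ⟨_, ⟨U, hU, rfl⟩, hy, -⟩ :=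
    Y.isBasis_affineOpens.exists_subset_of_mem_open (Set.mem_univ y) isOpen_univ
  replace hU : IsAffineOpen U := hU
  let ρ : Γ(Y, U) →+* Y.presheaf.stalk y := (Y.presheaf.germ U y hy).hom
  let r : Y.presheaf.stalk y →+* Y.residueField y := (Y.residue y).hom
  let σ : Y.residueField y →+* Ω := algebraMap (Y.residueField y) Ω
  let φ : Γ(Y, U) →+* Ω := (σ.comp r).comp ρ
  refine ⟨U, hU, φ, ?_, fun x => ?_⟩
  · show Spec.map (CommRingCat.ofHom φ) ≫ hU.fromSpec =
      Spec.map (CommRingCat.ofHom σ) ≫ Y.fromSpecResidueField y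
    rw [Scheme.fromSpecResidueField, ← hU.fromSpecStalk_eq_fromSpecStalk hy, IsAffineOpen.fromSpecStalk,
      show CommRingCat.ofHom φ = Y.presheaf.germ U y hy ≫ Y.residue y ≫ CommRingCat.ofHom σ from rfl,
      Spec.map_comp, Spec.map_comp]
    simp only [Category.assoc]
    rfl
  · letI : Algebra Γ(Y, U) (Y.presheaf.stalk y) := ρ.toAlgebra
    haveI : IsLocalization.AtPrime (Y.presheaf.stalk y) (hU.primeIdealOf ⟨y, hy⟩).asIdeal :=
      hU.isLocalization_stalk ⟨y, hy⟩
    letI : Algebra (Y.presheaf.stalk y) Ω := (σ.comp r).toAlgebra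
    letI : Algebra Γ(Y, U) Ω := φ.toAlgebra
    haveI : IsScalarTower Γ(Y, U) (Y.presheaf.stalk y) Ω := IsScalarTower.of_algebraMap_eq fun _ => rfl
    have hint : IsIntegral (Y.presheaf.stalk y) x := by
      obtain ⟨p, hp, hpx⟩ := (Algebra.IsAlgebraic.isAlgebraic (R := Y.residueField y) x).isIntegral
      have hl : p ∈ Polynomial.lifts r := (Polynomial.lifts_iff_coeff_lifts p).2 fun n =>
        IsLocalRing.residue_surjective (p.coeff n)
      obtain ⟨q, hq, -, hqm⟩ := Polynomial.lifts_and_natDegree_eq_and_monic hl hp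
      refine ⟨q, hqm, ?_⟩
      rw [← hpx, ← hq, Polynomial.eval₂_map]
      rfl
    obtain ⟨m, hm⟩ := hint.exists_multiple_integral_of_isLocalization (hU.primeIdealOf ⟨y, hy⟩).asIdeal.primeCompl x
    refine ⟨m.1, ?_, ?_⟩
    · show (σ.comp r) (ρ m.1) ≠ 0
      exact fun h => (IsLocalRing.notMem_maximalIdeal.2
        (IsLocalization.map_units (Y.presheaf.stalk y) m))
        ((IsLocalRing.residue_eq_zero_iff _).1 ((map_eq_zero σ).1 h))
    · rwa [Submonoid.smul_def, Algebra.smul_def] at hm

variable (g : X ⟶ Y) [QuasiCompact g] [QuasiSeparated g] {L : Set ℕ} {n : ℕ} (hg : EtAcyc.IsAcyclicN g L n)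

section stage

variable {U : Y.Opens} (hU : IsAffineOpen U) {Ω : Type u} [Field Ω] (φ : Γ(Y, U) →+* Ω)

/-- the stage -/
noncomputable def stageHom (c : Idx φ) : Spec (CommRingCat.of (piece φ c.1)) ⟶ Y :=
  Spec.map (CommRingCat.ofHom (toPiece φ c)) ≫ hU.fromSpec

/-- the stages over `Y` -/
noncomputable def stages : (Idx φ)ᵒᵖ ⥤ Over Y where
  obj c := Over.mk (stageHom hU φ c.unop)
  map {c d} m := Over.homMk (Spec.map ((diag φ).map m.unop)) (by
    show Spec.map ((diag φ).map m.unop) ≫ Spec.map _ ≫ _ = Spec.map _ ≫ _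
    rw [← Category.assoc, ← Spec.map_comp]
    rfl)
  map_id c := by
    ext : 1
    show Spec.map ((diag φ).map (𝟙 c.unop)) = _
    rw [CategoryTheory.Functor.map_id, Spec.map_id]
    rfl
  map_comp {c d e} a b := by
    ext : 1
    show Spec.map ((diag φ).map (b.unop ≫ a.unop)) = Spec.map ((diag φ).map a.unop) ≫ Spec.map ((diag φ).map b.unop)
    rw [Functor.map_comp, Spec.map_comp]

/-- the point over the stages -/
noncomputable def stageCone : Cone (stages hU φ) :=
  Cone.mk (Over.mk (Spec.map (CommRingCat.ofHom φ) ≫ hU.fromSpec))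
    { app := fun c => Over.homMk (Spec.map (CommRingCat.ofHom (piece φ c.unop.1).subtype)) (by
        show Spec.map (CommRingCat.ofHom (piece φ c.unop.1).subtype) ≫
          Spec.map (CommRingCat.ofHom (toPiece φ c.unop)) ≫ hU.fromSpec = _
        rw [← Category.assoc, ← Spec.map_comp]
        rfl)
      naturality := fun c d m => by
        ext : 1
        show 𝟙 _ ≫ Spec.map (CommRingCat.ofHom (piece φ d.unop.1).subtype) =
          Spec.map (CommRingCat.ofHom (piece φ c.unop.1).subtype) ≫ Spec.map ((diag φ).map m.unop)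
        rw [Category.id_comp, ← Spec.map_comp]
        rfl }

variable (h : ∀ x : Ω, ∃ c : Γ(Y, U), φ c ≠ 0 ∧ φ.IsIntegralElem (φ c * x))

include h in
theorem nonempty_isLimit_stageCone : Nonempty (IsLimit (stageCone hU φ)) := by
  obtain ⟨hc⟩ := nonempty_isColimit φ h
  haveI : IsFiltered (Idx φ) := isFiltered_of_directed_le_nonempty _
  haveI : IsConnected (Idx φ) := IsFiltered.isConnected _
  have hl : IsLimit (Scheme.Spec.mapCone (cocone φ).op) := isLimitOfPreserves Scheme.Spec hc.op
  exact ⟨isLimitOfReflects (Over.forget Y) hl⟩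

include hg in
theorem bijective_stage (c : Idx φ) (G : EtCoh.Ab (Spec (CommRingCat.of (piece φ c.1)))) (hG : EtAcyc.IsLTorsion L G)
    (q : ℕ) (hq : q ≤ n) [PreservesFiniteLimits (EtCoh.pull (pullback.fst (stageHom hU φ c) g))] :
    Function.Bijective (EtCore.Hpull (pullback.fst (stageHom hU φ c) g) G q) := by
  haveI : IsOpenImmersion (Spec.map (CommRingCat.ofHom (algebraMap Γ(Y, U) (Localization.Away c.1)))) :=
    IsOpenImmersion.of_isLocalization c.1
  haveI : IsOpenImmersion hU.fromSpec := hU.isOpenImmersion_fromSpec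
  let V : Y.Etale := Scheme.Etale.mk
    (Spec.map (CommRingCat.ofHom (algebraMap Γ(Y, U) (Localization.Away c.1))) ≫ hU.fromSpec)
  let p : Spec (CommRingCat.of (piece φ c.1)) ⟶ V.left := Spec.map (CommRingCat.ofHom (awayMap φ c))
  haveI : IsIntegralHom p := IsIntegralHom.SpecMap_iff.2 (awayMap_isIntegral φ c)
  have hp : p ≫ V.hom = stageHom hU φ c := by
    show Spec.map _ ≫ Spec.map _ ≫ hU.fromSpec = Spec.map _ ≫ _
    rw [← Category.assoc, ← Spec.map_comp, ← CommRingCat.ofHom_comp, awayMap_comp]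
  let hb := pullback.fst (stageHom hU φ c) g
  let pY : pullback (stageHom hU φ c) g ⟶ pullback V.hom g :=
    pullback.lift (hb ≫ p) (pullback.snd (stageHom hU φ c) g) (by rw [Category.assoc, hp, pullback.condition])
  have sq : IsPullback hb pY p (EtAcyc.prj g V) := by
    refine IsPullback.of_bot (h₃₁ := g) (v₂₂ := V.hom) (v₂₁ := pullback.snd V.hom g) ?_
      (pullback.lift_fst _ _ _).symm (IsPullback.of_hasPullback V.hom g)
    rw [hp, pullback.lift_snd]
    exact IsPullback.of_hasPullback _ _
  haveI := pull_preservesFiniteLimits (EtAcyc.prj g V)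
  haveI : IsAffine V.left := inferInstanceAs (IsAffine (Spec (CommRingCat.of (Localization.Away c.1))))
  exact (compN_baseChange hb (EtAcyc.prj g V) p pY sq.w L n (hg V)
    (fun Fb _ i _ => isIso_bcQ_integral sq Fb i) G hG).1 q hq

include hg h in
/-- the comparison at the point -/
theorem bijective_point (M : EtCoh.Ab Y) (hM : ∀ {Z : Scheme.{u}} (e : Z ⟶ Y), EtAcyc.IsLTorsion L ((EtCoh.pull e).obj M))
    (q : ℕ) (hq : q ≤ n) (gp : Spec (CommRingCat.of Ω) ⟶ Y) (hgp : Spec.map (CommRingCat.ofHom φ) ≫ hU.fromSpec = gp)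
    [PreservesFiniteLimits (EtCoh.pull (pullback.snd g gp))] :
    Function.Bijective (hVia (pullback.snd g gp) gp (pullback.snd g gp ≫ gp) rfl M q) := by
  subst hgp
  obtain ⟨hcone⟩ := nonempty_isLimit_stageCone hU φ h
  haveI : IsFiltered (Idx φ) := isFiltered_of_directed_le_nonempty _
  haveI : IsConnected (Idx φ) := IsFiltered.isConnected _
  haveI : PreservesLimitsOfSize.{u, u} (Over.pullback g) := (Over.mapPullbackAdj g).rightAdjoint_preservesLimits
  let Xs := stages hU φ ⋙ Over.pullback g ⋙ Over.forget X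
  let Ys := stages hU φ ⋙ Over.forget Y
  let cX : Cone Xs := (Over.pullback g ⋙ Over.forget X).mapCone (stageCone hU φ)
  let cY : Cone Ys := (Over.forget Y).mapCone (stageCone hU φ)
  have hcX : IsLimit cX := isLimitOfPreserves (Over.pullback g ⋙ Over.forget X) hcone
  have hcY : IsLimit cY := isLimitOfPreserves (Over.forget Y) hcone
  let hN : Xs ⟶ Ys :=
    { app := fun a => pullback.fst ((stages hU φ).obj a).hom g
      naturality := fun a b m => pullback.lift_fst _ _ _ }
  have hYaff : ∀ ⦃a b : (Idx φ)ᵒᵖ⦄ (m : a ⟶ b), IsAffineHom (Ys.map m) := fun a b m =>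
    isAffineHom_of_isAffine (Spec.map ((diag φ).map m.unop))
  have hXaff : ∀ ⦃a b : (Idx φ)ᵒᵖ⦄ (m : a ⟶ b), IsAffineHom (Xs.map m) := fun a b m => by
    refine MorphismProperty.of_isPullback (P := @IsAffineHom) (IsPullback.of_bot (h₃₁ := g)
      (v₂₂ := ((stages hU φ).obj b).hom) (v₂₁ := pullback.snd ((stages hU φ).obj b).hom g) ?_
      (pullback.lift_fst _ _ _).symm (IsPullback.of_hasPullback _ g)) (hYaff m)
    show IsPullback (pullback.fst ((stages hU φ).obj a).hom g)
      ((Xs.map m : pullback ((stages hU φ).obj a).hom g ⟶ pullback ((stages hU φ).obj b).hom g) ≫ pullback.snd _ g)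
      (((stages hU φ).map m).left ≫ ((stages hU φ).obj b).hom) g
    rw [Over.w ((stages hU φ).map m)]
    erw [pullback.lift_snd]
    exact IsPullback.of_hasPullback _ _
  have qY : ∀ a, CompactSpace ↥(Ys.obj a) := fun a =>
    inferInstanceAs (CompactSpace ↥(Spec (CommRingCat.of (piece φ a.unop.1))))
  have sY : ∀ a, QuasiSeparatedSpace ↥(Ys.obj a) := fun a =>
    inferInstanceAs (QuasiSeparatedSpace ↥(Spec (CommRingCat.of (piece φ a.unop.1))))
  have qX : ∀ a, CompactSpace ↥(Xs.obj a) := fun a => by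
    haveI := qY a
    haveI : QuasiCompact (pullback.fst ((stages hU φ).obj a).hom g) := MorphismProperty.pullback_fst _ _ ‹_›
    exact @QuasiCompact.compactSpace_of_compactSpace _ _ (pullback.fst ((stages hU φ).obj a).hom g) ‹_› (qY a)
  have sX : ∀ a, QuasiSeparatedSpace ↥(Xs.obj a) := fun a => by
    haveI : QuasiSeparated (pullback.fst ((stages hU φ).obj a).hom g) := MorphismProperty.pullback_fst _ _ ‹_›
    exact @quasiSeparatedSpace_of_quasiSeparated _ _ (pullback.fst ((stages hU φ).obj a).hom g) (sY a) ‹_›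
  let gp := Spec.map (CommRingCat.ofHom φ) ≫ hU.fromSpec
  let hp : cX.pt ⟶ cY.pt := pullback.fst gp g
  haveI : PreservesFiniteLimits (EtCoh.pull hp) := pull_preservesFiniteLimits _
  haveI := pull_preservesFiniteLimits (pullback.fst gp g)
  have key : Function.Bijective (hVia (pullback.fst gp g) gp (pullback.fst gp g ≫ gp) rfl M q) :=
    bijective_hVia_limit Xs Ys hXaff hYaff cX hcX cY hcY qX sX qY sY hN hp (fun a => (pullback.lift_fst _ _ _).symm)
      (fun i => stageHom hU φ i) (fun {i j} m => Over.w ((stages hU φ).map (homOfLE m).op)) M gp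
      (fun i => Over.w ((stageCone hU φ).π.app (op i))) q (fun i => by
        intro _
        haveI := pull_preservesFiniteLimits (pullback.fst (stageHom hU φ i) g)
        have hb := bijective_stage g hg hU φ i _ (hM (stageHom hU φ i)) q hq
        haveI : IsIso (appOf (θPull (pullback.fst (stageHom hU φ i) g) (stageHom hU φ i)
          (pullback.fst (stageHom hU φ i) g ≫ stageHom hU φ i) rfl) M) := by delta appOf; infer_instance
        exact (hmap_bijective_of_isIso (appOf (θPull (pullback.fst (stageHom hU φ i) g) (stageHom hU φ i)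
          (pullback.fst (stageHom hU φ i) g ≫ stageHom hU φ i) rfl) M) q).comp hb)
  haveI := pull_preservesFiniteLimits (Iso.refl (Spec (CommRingCat.of Ω))).hom
  haveI := pull_preservesFiniteLimits (pullbackSymmetry g gp).hom
  haveI := pull_preservesFiniteLimits ((pullbackSymmetry g gp).hom ≫ pullback.fst gp g)
  refine (hVia_bijective_iff (pullback.fst gp g) gp (pullback.fst gp g ≫ gp) rfl (pullback.snd g gp) gp
    (pullback.snd g gp ≫ gp) rfl (Iso.refl _) (pullbackSymmetry g gp) (Category.id_comp _) ?_ ?_ M q).1 key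
  · rw [← Category.assoc, pullbackSymmetry_hom_comp_fst]
  · rw [pullbackSymmetry_hom_comp_fst]
    exact (Category.comp_id _).symm

end stage

end Groth.Agent.FibreAcyc
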