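import Mathlib.RingTheory.IntegralClosure.IsIntegralClosure.Basic
import Mathlib.RingTheory.Localization.Away.Basic
import Mathlib.Algebra.Category.Ring.FilteredColimits
import Mathlib.Algebra.Category.Ring.Colimits
import Mathlib.AlgebraicGeometry.GammaSpecAdjunction
import Mathlib.AlgebraicGeometry.Morphisms.Integral

/-!
# An algebraic field extension of a residue field as a union of integral extensions of localizations
-/

set_option autoImplicit false
set_option linter.style.haveILetI false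
universe u

open CategoryTheory CategoryTheory.Limits AlgebraicGeometry Opposite

namespace Groth.Agent.FibreAcyc

variable {A Ω : Type u} [CommRing A] [Field Ω] (φ : A →+* Ω)

/-- elements invertible in `Ω` -/
def Idx : Type u := {c : A // φ c ≠ 0}

/-- the elements that become integral over `A` after multiplication by a power of `c` -/
def piece (c : A) : Subring Ω where
  carrier := {x | ∃ k : ℕ, φ.IsIntegralElem (φ c ^ k * x)}
  one_mem' := ⟨0, by rw [pow_zero, one_mul]; exact RingHom.isIntegralElem_one _⟩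
  zero_mem' := ⟨0, by rw [pow_zero, one_mul]; exact RingHom.isIntegralElem_zero _⟩
  mul_mem' := by
    rintro x y ⟨k, hk⟩ ⟨l, hl⟩
    refine ⟨k + l, ?_⟩
    rw [pow_add, mul_mul_mul_comm]
    exact hk.mul φ hl
  add_mem' := by
    rintro x y ⟨k, hk⟩ ⟨l, hl⟩
    refine ⟨k + l, ?_⟩
    rw [mul_add]
    refine RingHom.IsIntegralElem.add φ ?_ ?_
    · rw [pow_add, mul_right_comm]
      exact RingHom.IsIntegralElem.mul φ hk (by rw [← map_pow]; exact φ.isIntegralElem_map)
    · rw [pow_add, mul_assoc]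
      exact RingHom.IsIntegralElem.mul φ (by rw [← map_pow]; exact φ.isIntegralElem_map) hl
  neg_mem' := by
    rintro x ⟨k, hk⟩
    exact ⟨k, by rw [mul_neg]; exact hk.neg φ⟩

theorem piece_le_mul_left (c d : A) : piece φ c ≤ piece φ (c * d) := by
  rintro x ⟨k, hk⟩
  refine ⟨k, ?_⟩
  rw [map_mul, mul_pow, mul_right_comm]
  exact RingHom.IsIntegralElem.mul φ hk (by rw [← map_pow]; exact φ.isIntegralElem_map)

instance : Preorder (Idx φ) := Preorder.lift fun c : Idx φ => piece φ c.1

theorem exists_ge (c d : Idx φ) : ∃ e : Idx φ, c ≤ e ∧ d ≤ e :=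
  ⟨⟨c.1 * d.1, by rw [map_mul]; exact mul_ne_zero c.2 d.2⟩, piece_le_mul_left φ c.1 d.1,
    (piece_le_mul_left φ d.1 c.1).trans (le_of_eq (congrArg (piece φ) (mul_comm _ _)))⟩

instance isDirected : IsDirected (Idx φ) (· ≤ ·) := ⟨exists_ge φ⟩

instance : Nonempty (Idx φ) := ⟨⟨1, by rw [map_one]; exact one_ne_zero⟩⟩

theorem map_mem (c a : A) : φ a ∈ piece φ c := ⟨0, by rw [pow_zero, one_mul]; exact φ.isIntegralElem_map⟩

theorem inv_mem (c : Idx φ) : (φ c.1)⁻¹ ∈ piece φ c.1 :=
  ⟨1, by rw [pow_one, mul_inv_cancel₀ c.2]; exact RingHom.isIntegralElem_one _⟩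

/-- the map from `A` -/
def toPiece (c : Idx φ) : A →+* piece φ c.1 := φ.codRestrict _ (map_mem φ c.1)

theorem isUnit_toPiece (c : Idx φ) : IsUnit (toPiece φ c c.1) :=
  IsUnit.of_mul_eq_one ⟨(φ c.1)⁻¹, inv_mem φ c⟩ (Subtype.ext (mul_inv_cancel₀ c.2))

/-- the map from the localization -/
noncomputable def awayMap (c : Idx φ) : Localization.Away c.1 →+* piece φ c.1 :=
  IsLocalization.Away.lift (S := Localization.Away c.1) c.1 (isUnit_toPiece φ c)

theorem awayMap_comp (c : Idx φ) : (awayMap φ c).comp (algebraMap A _) = toPiece φ c :=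
  IsLocalization.Away.lift_comp _ _

theorem awayMap_isIntegral (c : Idx φ) : (awayMap φ c).IsIntegral := by
  intro x
  obtain ⟨k, hk⟩ := x.2
  let g := awayMap φ c
  have h1 : (toPiece φ c).IsIntegralElem (toPiece φ c c.1 ^ k * x) := by
    obtain ⟨p, hp, h0⟩ := hk
    refine ⟨p, hp, Subtype.ext ?_⟩
    refine Eq.trans ?_ h0
    exact Polynomial.hom_eval₂ p (toPiece φ c) (piece φ c.1).subtype _
  have h2 : g.IsIntegralElem (toPiece φ c c.1 ^ k * x) := by
    obtain ⟨p, hp, h0⟩ := h1
    refine ⟨p.map (algebraMap A _), hp.map _, ?_⟩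
    rw [Polynomial.eval₂_map, awayMap_comp, h0]
  have hu : IsUnit ((algebraMap A (Localization.Away c.1) c.1) ^ k) :=
    (IsLocalization.Away.algebraMap_isUnit c.1).pow k
  obtain ⟨v, hv⟩ := hu.exists_left_inv
  have e : g v * toPiece φ c c.1 ^ k = 1 := by
    rw [← awayMap_comp φ c, RingHom.comp_apply, ← map_pow, ← map_mul, hv, map_one]
  have := RingHom.IsIntegralElem.mul g (g.isIntegralElem_map (x := v)) h2
  rwa [← mul_assoc, e, one_mul] at this

/-- the pieces as a system of rings -/
def diag : Idx φ ⥤ CommRingCat.{u} where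
  obj c := CommRingCat.of (piece φ c.1)
  map {c d} h := CommRingCat.ofHom (Subring.inclusion (leOfHom h))

/-- the inclusions -/
def cocone : Cocone (diag φ) :=
  Cocone.mk (CommRingCat.of Ω) { app := fun c => CommRingCat.ofHom (piece φ c.1).subtype }

theorem nonempty_isColimit (h : ∀ x : Ω, ∃ c : A, φ c ≠ 0 ∧ φ.IsIntegralElem (φ c * x)) :
    Nonempty (IsColimit (cocone φ)) := by
  haveI : IsFiltered (Idx φ) := isFiltered_of_directed_le_nonempty _
  haveI : HasColimit (diag φ) := inferInstance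
  haveI : PreservesColimitsOfShape (Idx φ) (forget CommRingCat.{u}) := inferInstance
  haveI : ReflectsColimit (diag φ) (forget CommRingCat.{u}) := reflectsColimit_of_reflectsIsomorphisms (diag φ) _
  refine ⟨isColimitOfReflects (forget CommRingCat.{u}) ?_⟩
  refine Types.FilteredColimit.isColimitOf _ _ (fun x => ?_) fun i j x y hxy => ?_
  · obtain ⟨c, hc, hx⟩ := h x
    exact ⟨⟨c, hc⟩, ⟨x, 1, by rw [pow_one]; exact hx⟩, rfl⟩
  · obtain ⟨k, hik, hjk⟩ := exists_ge φ i j
    exact ⟨k, homOfLE hik, homOfLE hjk, Subtype.ext hxy⟩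

end Groth.Agent.FibreAcyc
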